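import Groth.Prelude.Def_EtOpen
import Mathlib.AlgebraicGeometry.Sites.Proetale
import Mathlib.CategoryTheory.Sites.SubcanonicalOver

/-!
# Representable presheaves on the small étale site are sheaves
-/

set_option autoImplicit false
set_option backward.isDefEq.respectTransparency false
set_option backward.isDefEq.respectTransparency.types false

universe u

open CategoryTheory CategoryTheory.Limits AlgebraicGeometry Opposite

namespace GrothLib.EtRepSh

instance : Scheme.etaleTopology.{u}.Subcanonical :=
  .of_le Scheme.etaleTopology_le_proetaleTopology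

variable {X : Scheme.{u}}

/-- The presheaf represented by an étale scheme. -/
noncomputable abbrev repPsh (U : X.Etale) : X.Etaleᵒᵖ ⥤ Type (u + 1) :=
  yoneda.obj U ⋙ uliftFunctor.{u + 1, u}

theorem isSheaf_repPsh (U : X.Etale) : Presheaf.IsSheaf X.smallEtaleTopology (repPsh U) := by
  let F := MorphismProperty.Over.forget @Etale ⊤ X
  have h : Presheaf.IsSheaf (X.overGrothendieckTopology @Etale) (yoneda.obj (F.obj U)) := by
    rw [isSheaf_iff_isSheaf_of_type]
    exact GrothendieckTopology.Subcanonical.isSheaf_of_isRepresentable _
  have h1 : Presheaf.IsSheaf X.smallEtaleTopology (F.op ⋙ yoneda.obj (F.obj U)) :=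
    by
    haveI : F.IsContinuous X.smallEtaleTopology (X.overGrothendieckTopology @Etale) := by
      haveI : RepresentablyFlat F := flat_of_preservesFiniteLimits _
      rw [Functor.isContinuous_iff_coverPreserving]
      exact F.coverPreserving_restrictedTopology _
    exact F.op_comp_isSheaf X.smallEtaleTopology (X.overGrothendieckTopology @Etale) ⟨_, h⟩
  have e : F.op ⋙ yoneda.obj (F.obj U) ≅ yoneda.obj U :=
    NatIso.ofComponents (fun V => Equiv.toIso
      ((Functor.FullyFaithful.ofFullyFaithful F).homEquiv (X := V.unop) (Y := U)).symm)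
      (fun g => by
        ext a
        apply F.map_injective
        simp [Functor.FullyFaithful.homEquiv])
  rw [isSheaf_iff_isSheaf_of_type]
  exact Presieve.isSheaf_comp_uliftFunctor _ ((isSheaf_iff_isSheaf_of_type _ _).1 ((Presheaf.isSheaf_of_iso_iff e).1 h1))

/-- The sheaf represented by an étale scheme. -/
noncomputable def repSheaf (U : X.Etale) : EtDesc.Sh X := ⟨repPsh U, isSheaf_repPsh U⟩

end GrothLib.EtRepSh
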