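import Groth.Agent.Lib.EtRepSh.Basic
import Groth.Agent.Lib.EtDescent21.Lift
import Groth.Agent.Lib.PropH0.EtH0

/-!
# Sections of étale schemes over a proper scheme lift from the closed fibre
-/

set_option autoImplicit false
set_option backward.isDefEq.respectTransparency false
set_option backward.isDefEq.respectTransparency.types false
set_option linter.style.haveILetI false

universe u

open CategoryTheory CategoryTheory.Limits AlgebraicGeometry Opposite
open GrothLib.EtSec GrothLib.EtDescent21

namespace GrothLib.EtRepSh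

variable {A : Type u} [CommRing A] [HenselianLocalRing A] {X : Scheme.{u}} (g : X ⟶ Spec (CommRingCat.of A))

/-- Sections of an étale scheme over a proper scheme lift from the closed fibre. -/
theorem exists_lift_of_proper [IsProper g] {E : Scheme.{u}} (h : E ⟶ X) [Etale h]
    (σ₀ : pullback g (clPt A) ⟶ E) (hσ₀ : σ₀ ≫ h = pullback.fst g (clPt A)) :
    ∃ σ : X ⟶ E, σ ≫ h = 𝟙 X ∧ pullback.fst g (clPt A) ≫ σ = σ₀ := by
  let i := pullback.fst g (clPt A)
  let U : X.Etale := Scheme.Etale.mk h
  let F : EtDesc.Sh X := repSheaf U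
  haveI := (PropH0.compactSpace_of_proper g).1
  haveI := (PropH0.compactSpace_of_proper g).2
  haveI : HenselianRing A (IsLocalRing.maximalIdeal A) := inferInstance
  have hi : PropH0.ConnOnIntegral i := PropH0.connOnIntegral_of_proper i (IsLocalRing.maximalIdeal A) g (by
    rw [Z0_eq]; exact range_fst_clPt g)
  let t0 : EtDesc.sect F U := ULift.up (𝟙 U)
  obtain ⟨τ, hτ⟩ := (PropH0.restrict_bijective i hi (F := F)).2 (Secs.ofSect (W := U) σ₀ hσ₀ t0)
  obtain ⟨t, ht⟩ := (secOf_bijective F (EtCoh.top X)).2 τ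
  let a : EtCoh.top X ⟶ U := t.down
  refine ⟨a.left, (MorphismProperty.Over.w a).trans rfl, ?_⟩
  obtain ⟨O, hO⟩ := exists_agreeOpen h (i ≫ a.left) σ₀
    (by rw [Category.assoc, hσ₀, show a.left ≫ h = 𝟙 X from MorphismProperty.Over.w a]; exact Category.comp_id _)
  have hmem : ∀ z : (pullback g (clPt A) : Scheme.{u}), z ∈ O := by
    intro z
    obtain ⟨Ω, _, _, p, hp⟩ := Secs.exists_point z
    have hv := congrArg (fun s : Secs i F => s.val Ω p (p ≫ i) rfl) hτ
    simp only [Secs.res_val, Secs.ofSect_val] at hv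
    rw [← ht, secOf_val] at hv
    obtain ⟨W, r₁, r₂, l, hl, hl₁, hl₂, he⟩ := gSh_eq hv
    have he' : r₁ ≫ a = r₂ := (congrArg ULift.down he).trans (Category.comp_id r₂)
    have hq : p ≫ i ≫ a.left = p ≫ σ₀ := by
      have e : l ≫ r₁.left ≫ a.left = l ≫ r₂.left := by
        rw [← he']; rfl
      rw [← Category.assoc l r₁.left a.left, hl₁, hl₂] at e
      rw [← Category.assoc]
      exact e
    have := (hO p).2 hq
    exact this ⟨default, hp⟩
  have := (hO (𝟙 _)).1 fun z _ => hmem z
  simpa using this

end GrothLib.EtRepSh
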